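import Mathlib
import Groth.Agent.GenFree.ReducedMain

/-!
Generic flatness of the graded quotients of an adic filtration over a reduced quotient of the base.
-/

set_option autoImplicit false
set_option linter.style.haveILetI false
set_option maxSynthPendingDepth 3
set_option maxHeartbeats 1000000

namespace Groth.Agent.GrFlatStrat

universe u

open TensorProduct

variable {A₀ : Type u} [CommRing A₀] [IsNoetherianRing A₀]
  {B₀ : Type u} [CommRing B₀] [Algebra A₀ B₀] [Algebra.FiniteType A₀ B₀]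

/-- Generic flatness of retracts of a finite module over a finite type algebra killed by `I`. -/
theorem exists_flat_retract {I : Ideal A₀} (hI : I.IsRadical) (hne : I ≠ ⊤) (S : Type u) [CommRing S]
    [Algebra A₀ S] [Algebra.FiniteType A₀ S] (E : Type u) [AddCommGroup E] [Module S E] [Module.Finite S E]
    (hE : ∀ a ∈ I, ∀ e : E, algebraMap A₀ S a • e = 0) :
    ∃ f : A₀, f ∉ I ∧ ∀ (X : Type u) [AddCommGroup X] [Module (A₀ ⧸ I) X] (i : X →+ E) (r : E →+ X),
      (∀ a x, i (Ideal.Quotient.mk I a • x) = algebraMap A₀ S a • i x) →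
      (∀ a e, r (algebraMap A₀ S a • e) = Ideal.Quotient.mk I a • r e) → (∀ x, r (i x) = x) →
      Module.Flat (Localization.Away (Ideal.Quotient.mk I f))
        (LocalizedModule (Submonoid.powers (Ideal.Quotient.mk I f)) X) := by
  classical
  haveI : IsReduced (A₀ ⧸ I) := (Ideal.isRadical_iff_quotient_reduced I).1 hI
  haveI : Nontrivial (A₀ ⧸ I) := Ideal.Quotient.nontrivial_iff.2 hne
  let IS : Ideal S := I.map (algebraMap A₀ S)
  have hkill : Module.IsTorsionBySet S E IS := by
    intro q s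
    have hle : IS ≤ ((⊥ : Submodule S E).colon {q}) := by
      rw [Ideal.map_le_iff_le_comap]
      intro a ha
      rw [Ideal.mem_comap, Submodule.mem_colon_singleton, Submodule.mem_bot]
      exact hE a ha q
    have h0 := hle s.2
    rwa [Submodule.mem_colon_singleton, Submodule.mem_bot] at h0
  letI : Module (S ⧸ IS) E := hkill.module
  haveI : IsScalarTower S (S ⧸ IS) E := hkill.isScalarTower
  haveI : Algebra.FiniteType A₀ (S ⧸ IS) :=
    Algebra.FiniteType.of_surjective (Ideal.Quotient.mkₐ A₀ IS) Ideal.Quotient.mk_surjective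
  haveI : Algebra.FiniteType (A₀ ⧸ I) (S ⧸ IS) := Algebra.FiniteType.of_restrictScalars_finiteType A₀ (A₀ ⧸ I) _
  haveI : Module.Finite (S ⧸ IS) E := Module.Finite.of_restrictScalars_finite S _ E
  letI : Module (A₀ ⧸ I) E := Module.compHom E (algebraMap (A₀ ⧸ I) (S ⧸ IS))
  haveI : IsScalarTower (A₀ ⧸ I) (S ⧸ IS) E := IsScalarTower.of_compHom _ _ _
  obtain ⟨fb, -, hfb, hfree, -⟩ :=
    GenFree.generic_freeness_reduced (R := A₀ ⧸ I) (S := S ⧸ IS) (M := E) (one_ne_zero (α := A₀ ⧸ I))
  obtain ⟨f, rfl⟩ := Ideal.Quotient.mk_surjective fb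
  refine ⟨f, fun h => hfb (Ideal.Quotient.eq_zero_iff_mem.2 h), fun X _ _ i r hi hr hri => ?_⟩
  haveI := hfree
  have hsmul : ∀ (a : A₀) (e : E), Ideal.Quotient.mk I a • e = algebraMap A₀ S a • e := by
    intro a e
    change algebraMap (A₀ ⧸ I) (S ⧸ IS) (Ideal.Quotient.mk I a) • e = _
    rw [Ideal.Quotient.algebraMap_quotient_map_quotient, ← Ideal.Quotient.algebraMap_eq, algebraMap_smul]
  let i₂ : X →ₗ[A₀ ⧸ I] E :=
    { toFun := i
      map_add' := i.map_add
      map_smul' := fun c x => by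
        obtain ⟨a, rfl⟩ := Ideal.Quotient.mk_surjective c
        rw [hi, RingHom.id_apply, hsmul] }
  let r₂ : E →ₗ[A₀ ⧸ I] X :=
    { toFun := r
      map_add' := r.map_add
      map_smul' := fun c x => by
        obtain ⟨a, rfl⟩ := Ideal.Quotient.mk_surjective c
        rw [hsmul, hr, RingHom.id_apply] }
  exact Module.Flat.of_retract (LocalizedModule.map _ i₂) (LocalizedModule.map _ r₂) (LinearMap.ext fun z => by
      induction z using LocalizedModule.induction_on with
      | _ x s =>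
        rw [LinearMap.comp_apply, LocalizedModule.map_mk, LocalizedModule.map_mk, LinearMap.id_apply]
        exact congrArg (LocalizedModule.mk · s) (hri x))

/-- All pieces `J^n N / J^(n+1) N` become flat over one `R_f`, for `R = A₀/I` reduced and `I N = 0`. -/
theorem exists_flat_graded {I : Ideal A₀} (hI : I.IsRadical) (hne : I ≠ ⊤) (J₀ : Ideal B₀)
    (N : Type u) [AddCommGroup N] [Module B₀ N] [Module A₀ N] [IsScalarTower A₀ B₀ N]
    [Module.Finite B₀ N] (hN : ∀ a ∈ I, ∀ x : N, algebraMap A₀ B₀ a • x = 0) :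
    ∃ f : A₀, f ∉ I ∧ ∀ (n : ℕ)
      (_ : Module (A₀ ⧸ I) (↥(J₀ ^ n • (⊤ : Submodule B₀ N)) ⧸
        (J₀ • ⊤ : Submodule B₀ ↥(J₀ ^ n • (⊤ : Submodule B₀ N)))))
      (_ : IsScalarTower A₀ (A₀ ⧸ I) (↥(J₀ ^ n • (⊤ : Submodule B₀ N)) ⧸
        (J₀ • ⊤ : Submodule B₀ ↥(J₀ ^ n • (⊤ : Submodule B₀ N))))),
      Module.Flat (Localization.Away (Ideal.Quotient.mk I f))
        (LocalizedModule (Submonoid.powers (Ideal.Quotient.mk I f))
          (↥(J₀ ^ n • (⊤ : Submodule B₀ N)) ⧸
            (J₀ • ⊤ : Submodule B₀ ↥(J₀ ^ n • (⊤ : Submodule B₀ N))))) := by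
  classical
  haveI : IsNoetherianRing B₀ := Algebra.FiniteType.isNoetherianRing A₀ B₀
  let F : J₀.Filtration N := J₀.stableFiltration ⊤
  haveI : Module.Finite (reesAlgebra J₀) F.submodule := Module.Finite.iff_fg.2
    ((Ideal.Filtration.submodule_fg_iff_stable F fun i => IsNoetherian.noetherian _).2 (J₀.stableFiltration_stable ⊤))
  haveI : Algebra.FiniteType A₀ (reesAlgebra J₀) := Algebra.FiniteType.trans (S := B₀) inferInstance inferInstance
  let JS : Ideal (reesAlgebra J₀) := J₀.map (algebraMap B₀ (reesAlgebra J₀))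
  let Q := F.submodule ⧸ (JS • ⊤ : Submodule (reesAlgebra J₀) F.submodule)
  have hQ : ∀ a ∈ I, ∀ q : Q, algebraMap A₀ (reesAlgebra J₀) a • q = 0 := fun a ha q => by
    obtain ⟨x, rfl⟩ := Submodule.Quotient.mk_surjective _ q
    rw [← Submodule.Quotient.mk_smul]
    have h0 : algebraMap A₀ (reesAlgebra J₀) a • x = 0 := by
      rw [IsScalarTower.algebraMap_apply A₀ B₀ (reesAlgebra J₀), algebraMap_smul]
      apply Subtype.ext
      ext j
      exact hN a ha _
    rw [h0, Submodule.Quotient.mk_zero]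
  obtain ⟨f, hf, H⟩ := exists_flat_retract hI hne (reesAlgebra J₀) Q hQ
  refine ⟨f, hf, fun n _ _ => ?_⟩
  let P : Submodule B₀ N := J₀ ^ n • ⊤
  let i₀ : P →ₗ[B₀] F.submodule :=
    { toFun := fun x => ⟨PolynomialModule.single B₀ n (x : N), fun j => by
        rw [PolynomialModule.coeff_single, Finsupp.single_apply]
        split_ifs with h
        · subst h; exact x.2
        · exact zero_mem _⟩
      map_add' := fun x y => Subtype.ext (by simp)
      map_smul' := fun a x => Subtype.ext (PolynomialModule.single_smul n a (x : N)) }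
  let r₀ : F.submodule →ₗ[B₀] P :=
    { toFun := fun e => ⟨(e : PolynomialModule B₀ N).coeff n, e.2 n⟩
      map_add' := fun x y => Subtype.ext (by simp)
      map_smul' := fun a x => Subtype.ext
        (show (a • (x : PolynomialModule B₀ N)).coeff n = a • (x : PolynomialModule B₀ N).coeff n from rfl) }
  have hJE : (JS • ⊤ : Submodule (reesAlgebra J₀) F.submodule).restrictScalars B₀ =
      J₀ • (⊤ : Submodule B₀ F.submodule) := by
    rw [Ideal.smul_restrictScalars, Submodule.restrictScalars_top]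
  have hi₀ : ∀ x ∈ (J₀ • ⊤ : Submodule B₀ P), i₀ x ∈ (JS • ⊤ : Submodule (reesAlgebra J₀) F.submodule) := by
    intro x hx
    have h1 := Submodule.mem_map_of_mem (f := i₀) hx
    rw [Submodule.map_smul''] at h1
    rw [← Submodule.restrictScalars_mem B₀, hJE]
    exact Submodule.smul_mono le_rfl le_top h1
  have hr₀ : ∀ x ∈ (JS • ⊤ : Submodule (reesAlgebra J₀) F.submodule), r₀ x ∈ (J₀ • ⊤ : Submodule B₀ P) := by
    intro x hx
    rw [← Submodule.restrictScalars_mem B₀, hJE] at hx
    have h1 := Submodule.mem_map_of_mem (f := r₀) hx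
    rw [Submodule.map_smul''] at h1
    exact Submodule.smul_mono le_rfl le_top h1
  have hsmul : ∀ (a : A₀) (e : F.submodule),
      algebraMap A₀ (reesAlgebra J₀) a • (Submodule.Quotient.mk e : Q) = Submodule.Quotient.mk (algebraMap A₀ B₀ a • e) := by
    intro a e
    rw [← Submodule.Quotient.mk_smul, IsScalarTower.algebraMap_apply A₀ B₀ (reesAlgebra J₀), algebraMap_smul]
  have hsmul' : ∀ (a : A₀) (x : P),
      Ideal.Quotient.mk I a • (Submodule.Quotient.mk x : P ⧸ (J₀ • ⊤ : Submodule B₀ P)) =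
        Submodule.Quotient.mk (algebraMap A₀ B₀ a • x) := by
    intro a x
    rw [← Ideal.Quotient.algebraMap_eq, algebraMap_smul, Submodule.Quotient.mk_smul, algebraMap_smul]
  let i₂ : (P ⧸ (J₀ • ⊤ : Submodule B₀ P)) →+ Q :=
    AddMonoidHom.mk' (fun z => Quotient.liftOn' z (fun x => (Submodule.Quotient.mk (i₀ x) : Q)) fun x y h => by
        rw [Submodule.Quotient.eq, ← map_sub]
        exact hi₀ _ ((Submodule.quotientRel_def _).1 h)) (by
      intro z w
      obtain ⟨x, rfl⟩ := Submodule.Quotient.mk_surjective _ z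
      obtain ⟨y, rfl⟩ := Submodule.Quotient.mk_surjective _ w
      change Submodule.Quotient.mk (i₀ (x + y)) = Submodule.Quotient.mk (i₀ x) + Submodule.Quotient.mk (i₀ y)
      rw [map_add]; rfl)
  let r₂ : Q →+ (P ⧸ (J₀ • ⊤ : Submodule B₀ P)) :=
    AddMonoidHom.mk' (fun z => Quotient.liftOn' z (fun x => Submodule.Quotient.mk (r₀ x)) fun x y h => by
        rw [Submodule.Quotient.eq, ← map_sub]
        exact hr₀ _ ((Submodule.quotientRel_def _).1 h)) (by
      intro z w
      obtain ⟨x, rfl⟩ := Submodule.Quotient.mk_surjective _ z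
      obtain ⟨y, rfl⟩ := Submodule.Quotient.mk_surjective _ w
      change Submodule.Quotient.mk (r₀ (x + y)) = Submodule.Quotient.mk (r₀ x) + Submodule.Quotient.mk (r₀ y)
      rw [map_add]; rfl)
  refine H _ i₂ r₂ (fun a z => ?_) (fun a z => ?_) (fun z => ?_)
  · obtain ⟨x, rfl⟩ := Submodule.Quotient.mk_surjective _ z
    rw [hsmul']
    change Submodule.Quotient.mk (i₀ (algebraMap A₀ B₀ a • x)) =
      algebraMap A₀ (reesAlgebra J₀) a • (Submodule.Quotient.mk (i₀ x) : Q)
    rw [hsmul, map_smul]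
  · obtain ⟨x, rfl⟩ := Submodule.Quotient.mk_surjective _ z
    rw [hsmul]
    change Submodule.Quotient.mk (r₀ (algebraMap A₀ B₀ a • x)) =
      Ideal.Quotient.mk I a • (Submodule.Quotient.mk (r₀ x) : P ⧸ (J₀ • ⊤ : Submodule B₀ P))
    rw [hsmul', map_smul]
  · obtain ⟨x, rfl⟩ := Submodule.Quotient.mk_surjective _ z
    change Submodule.Quotient.mk (r₀ (i₀ x)) = Submodule.Quotient.mk x
    congr 1
    exact Subtype.ext (by simp [r₀, i₀])

/-- For a radical ideal `I ≠ ⊤` some `f ∉ I` makes the graded quotients of `(A₀/I)_f ⊗ M₀` flat. -/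
theorem exists_flat_piece {I : Ideal A₀} (hI : I.IsRadical) (hne : I ≠ ⊤) (J₀ : Ideal B₀)
    (M₀ : Type u) [AddCommGroup M₀] [Module B₀ M₀] [Module A₀ M₀] [IsScalarTower A₀ B₀ M₀]
    [Module.Finite B₀ M₀] :
    ∃ f : A₀, f ∉ I ∧ ∀ n : ℕ,
      Module.Flat (Localization.Away (Ideal.Quotient.mk I f))
        ↥(Submodule.map
            (LinearMap.range (LinearMap.baseChange (Localization.Away (Ideal.Quotient.mk I f))
              ((J₀ ^ (n + 1) • (⊤ : Submodule B₀ M₀)).restrictScalars A₀).subtype)).mkQ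
            (LinearMap.range (LinearMap.baseChange (Localization.Away (Ideal.Quotient.mk I f))
              ((J₀ ^ n • (⊤ : Submodule B₀ M₀)).restrictScalars A₀).subtype))) := by
  classical
  let K : Submodule B₀ M₀ := I.map (algebraMap A₀ B₀) • ⊤
  let N := M₀ ⧸ K
  have hN : ∀ a ∈ I, ∀ x : N, algebraMap A₀ B₀ a • x = 0 := fun a ha x => by
    obtain ⟨m, rfl⟩ := Submodule.Quotient.mk_surjective _ x
    rw [← Submodule.Quotient.mk_smul, Submodule.Quotient.mk_eq_zero]
    exact Submodule.smul_mem_smul (Ideal.mem_map_of_mem _ ha) trivial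
  obtain ⟨f, hf, H⟩ := exists_flat_graded hI hne J₀ N hN
  refine ⟨f, hf, fun n => ?_⟩
  let P : ℕ → Submodule B₀ N := fun m => J₀ ^ m • ⊤
  let G := ↥(P n) ⧸ (J₀ • ⊤ : Submodule B₀ ↥(P n))
  have hNA : ∀ a ∈ I, ∀ x : N, a • x = 0 := fun a ha x => by rw [← algebraMap_smul B₀ a x, hN a ha x]
  have htN : Module.IsTorsionBySet A₀ N I := fun x a => hNA a a.2 x
  letI : Module (A₀ ⧸ I) N := htN.module
  haveI : IsScalarTower A₀ (A₀ ⧸ I) N := htN.isScalarTower
  have htG : Module.IsTorsionBySet A₀ G I := fun x a => by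
    obtain ⟨y, rfl⟩ := Submodule.Quotient.mk_surjective _ x
    rw [← Submodule.Quotient.mk_smul]
    convert Submodule.Quotient.mk_zero (J₀ • ⊤ : Submodule B₀ ↥(P n))
    exact Subtype.ext (hNA a a.2 _)
  letI : Module (A₀ ⧸ I) G := htG.module
  haveI : IsScalarTower A₀ (A₀ ⧸ I) G := htG.isScalarTower
  have hflat := H n inferInstance inferInstance
  let fb := Ideal.Quotient.mk I f
  let L := Localization.Away fb
  let g₀ : M₀ →ₗ[A₀] L ⊗[A₀] M₀ := TensorProduct.mk A₀ L M₀ 1
  have hK : K.restrictScalars A₀ = I • (⊤ : Submodule A₀ M₀) := by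
    rw [Ideal.smul_restrictScalars, Submodule.restrictScalars_top]
  have hs : Function.Surjective (algebraMap A₀ (A₀ ⧸ I)) := Ideal.Quotient.mk_surjective
  let e' : (A₀ ⧸ I) ⊗[A₀] M₀ ≃ₗ[A₀] N := (TensorProduct.quotTensorEquivQuotSMul M₀ I).trans
    ((Submodule.quotEquivOfEq _ _ hK.symm).trans (Submodule.Quotient.restrictScalarsEquiv A₀ K))
  let mkN : M₀ →ₗ[A₀] N := K.mkQ.restrictScalars A₀
  have hbN : IsBaseChange (A₀ ⧸ I) mkN := IsBaseChange.of_equiv (LinearEquiv.extendScalarsOfSurjective hs e')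
    fun m => by simp [e', mkN]; rfl
  have hg₀ : IsBaseChange L g₀ := TensorProduct.isBaseChange A₀ M₀ L
  let g : N →ₗ[A₀ ⧸ I] L ⊗[A₀] M₀ := hbN.lift g₀
  have hg : ∀ m, g (mkN m) = g₀ m := hbN.lift_eq g₀
  have hbg : IsBaseChange L g := IsBaseChange.of_comp hbN (by
    convert hg₀
    exact LinearMap.ext hg)
  haveI : IsLocalizedModule (Submonoid.powers fb) g :=
    (isLocalizedModule_iff_isBaseChange (Submonoid.powers fb) L g).2 hbg
  let P' : ℕ → Submodule (A₀ ⧸ I) N := fun m =>
    { toAddSubmonoid := (P m).toAddSubmonoid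
      smul_mem' := fun r x hx => by
        obtain ⟨a, rfl⟩ := Ideal.Quotient.mk_surjective r
        rw [← Ideal.Quotient.algebraMap_eq, algebraMap_smul, ← algebraMap_smul B₀ a x]
        exact (P m).smul_mem _ hx }
  have hP : ∀ m, P m = Submodule.map K.mkQ (J₀ ^ m • ⊤) := fun m => by
    rw [Submodule.map_smul'', Submodule.map_top, Submodule.range_mkQ]
  have hrange : ∀ m, LinearMap.range (LinearMap.baseChange L
      ((J₀ ^ m • (⊤ : Submodule B₀ M₀)).restrictScalars A₀).subtype) =
      (P' m).localized' L (Submonoid.powers fb) g := by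
    intro m
    apply le_antisymm
    · rintro _ ⟨z, rfl⟩
      induction z using TensorProduct.induction_on with
      | zero => simp
      | add a b ha hb => rw [map_add]; exact add_mem ha hb
      | tmul a y =>
        have ha : LinearMap.baseChange L ((J₀ ^ m • (⊤ : Submodule B₀ M₀)).restrictScalars A₀).subtype (a ⊗ₜ[A₀] y) =
            a • g₀ (y : M₀) := by
          rw [LinearMap.baseChange_tmul, TensorProduct.mk_apply, TensorProduct.smul_tmul', smul_eq_mul, mul_one]
          rfl
        rw [ha]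
        refine Submodule.smul_mem _ a ?_
        refine ⟨mkN y, ?_, 1, ?_⟩
        · show mkN y ∈ P m
          rw [hP]; exact ⟨y, y.2, rfl⟩
        · rw [IsLocalizedModule.mk'_one, hg]
    · rintro v ⟨p, hp, s, rfl⟩
      have hp' : p ∈ P m := hp
      rw [hP] at hp'
      obtain ⟨y, hy, rfl⟩ := hp'
      have hgy : g (K.mkQ y) = (1 : L) ⊗ₜ[A₀] y := hg y
      have hu := IsLocalization.map_units L s
      have hv : IsLocalizedModule.mk' g (K.mkQ y) s = (↑hu.unit⁻¹ : L) • g (K.mkQ y) := by
        rw [IsLocalizedModule.mk'_eq_iff, Submonoid.smul_def, ← algebraMap_smul L (s : A₀ ⧸ I), smul_smul,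
          IsUnit.mul_val_inv, one_smul]
      rw [hv]
      refine Submodule.smul_mem _ _ ⟨(1 : L) ⊗ₜ[A₀] ⟨y, hy⟩, ?_⟩
      rw [LinearMap.baseChange_tmul, hgy]; rfl
  rw [hrange (n + 1), hrange n]
  set F₁ := (P' (n + 1)).localized' L (Submonoid.powers fb) g with hF₁
  set F₀ := (P' n).localized' L (Submonoid.powers fb) g with hF₀
  have hker : ∀ x : ↥(P n), x ∈ (J₀ • ⊤ : Submodule B₀ ↥(P n)) ↔ (x : N) ∈ P (n + 1) := by
    intro x
    have hm : Submodule.map (P n).subtype (J₀ • ⊤) = P (n + 1) := by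
      rw [Submodule.map_smul'', Submodule.map_top, Submodule.range_subtype]
      show J₀ • (J₀ ^ n • ⊤ : Submodule B₀ N) = J₀ ^ (n + 1) • ⊤
      rw [pow_succ', mul_smul]
    rw [← hm]
    exact ⟨fun h => ⟨x, h, rfl⟩, fun ⟨y, hy, hyx⟩ => by rwa [← Subtype.ext hyx]⟩
  have hmem : ∀ x : ↥(P n), g (x : N) ∈ F₀ := fun x => ⟨x, x.2, 1, IsLocalizedModule.mk'_one _ _ _⟩
  let πf : G → ↥(Submodule.map F₁.mkQ F₀) := fun z => Quotient.liftOn' z
    (fun x => ⟨F₁.mkQ (g (x : N)), Submodule.mem_map_of_mem (hmem x)⟩) fun x y h => by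
      refine Subtype.ext ((Submodule.Quotient.eq F₁).2 ?_)
      rw [← map_sub]
      exact ⟨_, (hker (x - y)).1 ((Submodule.quotientRel_def _).1 h), 1, IsLocalizedModule.mk'_one _ _ _⟩
  let π : G →ₗ[A₀ ⧸ I] ↥(Submodule.map F₁.mkQ F₀) :=
    { toFun := πf
      map_add' := by
        intro z w
        obtain ⟨x, rfl⟩ := Submodule.Quotient.mk_surjective _ z
        obtain ⟨y, rfl⟩ := Submodule.Quotient.mk_surjective _ w
        refine Subtype.ext ?_
        change F₁.mkQ (g ((x : N) + (y : N))) = F₁.mkQ (g x) + F₁.mkQ (g y)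
        rw [map_add, map_add]
      map_smul' := by
        intro r z
        obtain ⟨a, rfl⟩ := Ideal.Quotient.mk_surjective r
        obtain ⟨x, rfl⟩ := Submodule.Quotient.mk_surjective _ z
        refine Subtype.ext ?_
        rw [← Ideal.Quotient.algebraMap_eq, algebraMap_smul, RingHom.id_apply, algebraMap_smul,
          ← Submodule.Quotient.mk_smul]
        change F₁.mkQ (g (a • (x : N))) = a • F₁.mkQ (g x)
        rw [LinearMap.map_smul_of_tower, LinearMap.map_smul_of_tower] }
  haveI : IsLocalizedModule (Submonoid.powers fb) π :=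
    { map_units := fun s => by
        rw [Module.End.isUnit_iff]
        have hu := IsLocalization.map_units L s
        have e : ∀ z : ↥(Submodule.map F₁.mkQ F₀),
            algebraMap (A₀ ⧸ I) (Module.End (A₀ ⧸ I) ↥(Submodule.map F₁.mkQ F₀)) s z = (hu.unit : L) • z := fun z => by
          rw [Module.algebraMap_end_apply, IsUnit.unit_spec, algebraMap_smul]
        constructor
        · intro a b hab
          rw [e, e] at hab
          exact smul_left_cancel hu.unit hab
        · intro b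
          exact ⟨hu.unit⁻¹ • b, by rw [e]; exact smul_inv_smul hu.unit b⟩
      surj := by
        rintro ⟨_, v, ⟨p, hp, s, rfl⟩, rfl⟩
        refine ⟨(Submodule.Quotient.mk ⟨p, hp⟩, s), Subtype.ext ?_⟩
        change (s : A₀ ⧸ I) • F₁.mkQ (IsLocalizedModule.mk' g p s) = F₁.mkQ (g p)
        rw [← LinearMap.map_smul_of_tower, ← Submonoid.smul_def, IsLocalizedModule.mk'_cancel']
      exists_of_eq := fun {z w} h => by
        obtain ⟨x, rfl⟩ := Submodule.Quotient.mk_surjective _ z
        obtain ⟨y, rfl⟩ := Submodule.Quotient.mk_surjective _ w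
        have h' : g (x : N) - g (y : N) ∈ F₁ := (Submodule.Quotient.eq F₁).1 (congrArg Subtype.val h)
        rw [← map_sub] at h'
        obtain ⟨q, hq, s, hqs⟩ := h'
        rw [IsLocalizedModule.mk'_eq_iff, Submonoid.smul_def, ← map_smul] at hqs
        obtain ⟨c, hc⟩ := IsLocalizedModule.exists_of_eq (S := Submonoid.powers fb) (f := g) hqs
        refine ⟨c * s, ?_⟩
        obtain ⟨a, ha⟩ := Ideal.Quotient.mk_surjective ((c * s : Submonoid.powers fb) : A₀ ⧸ I)
        rw [Submonoid.smul_def, Submonoid.smul_def, ← ha, ← Ideal.Quotient.algebraMap_eq, algebraMap_smul,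
          algebraMap_smul, ← Submodule.Quotient.mk_smul, ← Submodule.Quotient.mk_smul, Submodule.Quotient.eq,
          ← smul_sub, hker]
        have e1 : ((a • (x - y) : ↥(P n)) : N) = (c : A₀ ⧸ I) • q := by
          change a • ((x : N) - (y : N)) = _
          rw [← algebraMap_smul (A₀ ⧸ I) a, Ideal.Quotient.algebraMap_eq, ha, Submonoid.coe_mul, mul_smul]
          exact hc.symm
        rw [e1]
        exact (P' (n + 1)).smul_mem _ hq }
  haveI := hflat
  exact Module.Flat.of_linearEquiv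
    ((IsLocalizedModule.iso (Submonoid.powers fb) π).extendScalarsOfIsLocalization (Submonoid.powers fb) L).symm

end Groth.Agent.GrFlatStrat
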